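import Mathlib.CategoryTheory.Sites.ConstantSheaf
import Groth.Prelude.Def_CohSite
import Mathlib.Algebra.Category.ModuleCat.FilteredColimits
import Mathlib.CategoryTheory.Sites.LocallyBijective
import Mathlib.Algebra.Category.ModuleCat.AB
import Mathlib.CategoryTheory.Abelian.GrothendieckAxioms.Sheaf
import Mathlib.Algebra.Homology.ShortComplex.ModuleCat
import Mathlib.CategoryTheory.Linear.FunctorCategory
import Mathlib.Algebra.Module.FinitePresentation
import Mathlib.LinearAlgebra.TensorProduct.Pi
import Mathlib.RingTheory.Flat.Tensor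
import Mathlib.Algebra.Homology.ShortComplex.ExactFunctor

/-!
# Sections of constant sheaves of modules
-/

set_option autoImplicit false
set_option linter.style.haveILetI false
set_option linter.unusedSectionVars false
set_option backward.isDefEq.respectTransparency false
set_option backward.isDefEq.respectTransparency.types false

universe u

open CategoryTheory CategoryTheory.Limits Opposite
open scoped TensorProduct

namespace Groth.Agent.H15Site.ConstModule

variable {C : Type u} [SmallCategory C] (J : GrothendieckTopology C) (Λ : Type u) [CommRing Λ]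

/-- Sections over `U` of the constant sheaf. -/
noncomputable abbrev T (U : C) : ModuleCat.{u} Λ ⥤ ModuleCat.{u} Λ :=
  constantSheaf J (ModuleCat.{u} Λ) ⋙ sheafToPresheaf J (ModuleCat.{u} Λ) ⋙
    (evaluation Cᵒᵖ (ModuleCat.{u} Λ)).obj (op U)

variable {Λ}

/-- The unit, as a map of presheaves of sets. -/
noncomputable abbrev ηSet (P : Cᵒᵖ ⥤ ModuleCat.{u} Λ) :
    P ⋙ CategoryTheory.forget (ModuleCat.{u} Λ) ⟶ sheafify J P ⋙ CategoryTheory.forget (ModuleCat.{u} Λ) :=
  Functor.whiskerRight (toSheafify J P) (CategoryTheory.forget (ModuleCat.{u} Λ))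

theorem W_ηSet (P : Cᵒᵖ ⥤ ModuleCat.{u} Λ) : J.W (ηSet J P) := by
  have h := (GrothendieckTopology.W_iff_isLocallyBijective (A := ModuleCat.{u} Λ) J _).1
    (J.W_toSheafify P)
  refine (GrothendieckTopology.W_iff_isLocallyBijective J _).2
    ⟨⟨fun {X} x y e => ?_⟩, ⟨fun {U} s => ?_⟩⟩
  · have := h.1
    exact Presheaf.equalizerSieve_mem J (toSheafify J P) x y e
  · have := h.2
    exact Presheaf.imageSieve_mem J (toSheafify J P) s

/-- Surjections of modules are surjective on sections of constant sheaves. -/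
theorem surjective_map (U : C) {B B' : ModuleCat.{u} Λ} (g : B ⟶ B') (hg : Function.Surjective g.hom) :
    Function.Surjective ((T J Λ U).map g).hom := by
  let P : Cᵒᵖ ⥤ ModuleCat.{u} Λ := (Functor.const Cᵒᵖ).obj B
  let P' : Cᵒᵖ ⥤ ModuleCat.{u} Λ := (Functor.const Cᵒᵖ).obj B'
  let σ : P' ⋙ CategoryTheory.forget (ModuleCat.{u} Λ) ⟶ P ⋙ CategoryTheory.forget (ModuleCat.{u} Λ) :=
    { app := fun _ => ↾fun b => (hg b).choose
      naturality := fun _ _ _ => rfl }
  have hsB := (Presheaf.isSheaf_iff_isSheaf_forget J (sheafify J P)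
    (CategoryTheory.forget (ModuleCat.{u} Λ))).1 ((presheafToSheaf J (ModuleCat.{u} Λ)).obj P).property
  have hsB' := (Presheaf.isSheaf_iff_isSheaf_forget J (sheafify J P')
    (CategoryTheory.forget (ModuleCat.{u} Λ))).1 ((presheafToSheaf J (ModuleCat.{u} Λ)).obj P').property
  obtain ⟨h, hh⟩ := (W_ηSet J P' _ hsB).2 (σ ≫ ηSet J P)
  have hid : h ≫ Functor.whiskerRight ((constantSheaf J (ModuleCat.{u} Λ)).map g).hom
      (CategoryTheory.forget (ModuleCat.{u} Λ)) = 𝟙 _ := by
    refine (W_ηSet J P' _ hsB').1 ?_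
    change ηSet J P' ≫ h ≫ _ = ηSet J P' ≫ 𝟙 _
    rw [← Category.assoc, show ηSet J P' ≫ h = σ ≫ ηSet J P from hh, Category.comp_id, Category.assoc]
    refine NatTrans.ext (funext fun U => ?_)
    ext b
    refine (ConcreteCategory.congr_hom (congrArg (fun m => NatTrans.app m U)
      (toSheafify_naturality J ((Functor.const Cᵒᵖ).map g))) ((hg b).choose)).symm.trans ?_
    exact congrArg ((toSheafify J P').app U).hom (hg b).choose_spec
  exact fun x => ⟨h.app (op U) x,
    ConcreteCategory.congr_hom (congrArg (fun m => NatTrans.app m (op U)) hid) x⟩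

instance (U : C) : (T J Λ U).Additive := by
  haveI : (constantSheaf J (ModuleCat.{u} Λ)).Additive := by
    unfold constantSheaf
    infer_instance
  infer_instance

theorem preservesFiniteLimits_T (U : C) : PreservesFiniteLimits (T J Λ U) := by
  haveI : PreservesFiniteLimits (constantSheaf J (ModuleCat.{u} Λ)) := by
    unfold constantSheaf
    infer_instance
  infer_instance

/-- Exactness. -/
theorem exact_map (U : C) {A B B' : ModuleCat.{u} Λ} (f : A ⟶ B) (g : B ⟶ B')
    (h : Function.Exact f.hom g.hom) : Function.Exact ((T J Λ U).map f).hom ((T J Λ U).map g).hom := by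
  haveI := preservesFiniteLimits_T (Λ := Λ) J U
  haveI : PreservesFiniteColimits (T J Λ U) := by
    refine (Functor.preservesFiniteColimits_iff_forall_exact_map_and_epi _).2 fun S hS => ?_
    exact ⟨hS.exact.map_of_mono_of_preservesKernel _ hS.mono_f inferInstance,
      (ModuleCat.epi_iff_surjective _).2 (surjective_map J U S.g hS.surjective_g)⟩
  let S : ShortComplex (ModuleCat.{u} Λ) := ShortComplex.mk f g (by ext x; exact h.apply_apply_eq_zero x)
  have hS : S.Exact := (ShortComplex.moduleCat_exact_iff _).2 fun x hx => (h x).1 hx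
  have hT := (ShortComplex.moduleCat_exact_iff _).1 (hS.map (T J Λ U))
  intro x
  refine ⟨fun hx => hT x hx, ?_⟩
  rintro ⟨y, rfl⟩
  exact ConcreteCategory.congr_hom (S.map (T J Λ U)).zero y

theorem map_smul_id (U : C) (M : ModuleCat.{u} Λ) (l : Λ) :
    (T J Λ U).map (l • 𝟙 M) = l • 𝟙 ((T J Λ U).obj M) := by
  let P : Cᵒᵖ ⥤ ModuleCat.{u} Λ := (Functor.const Cᵒᵖ).obj M
  have h : sheafifyMap J ((Functor.const Cᵒᵖ).map (l • 𝟙 M)) = l • 𝟙 (sheafify J P) := by
    refine sheafify_hom_ext J _ _ ((presheafToSheaf J (ModuleCat.{u} Λ)).obj P).property ?_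
    refine (toSheafify_naturality J ((Functor.const Cᵒᵖ).map (l • 𝟙 M))).symm.trans ?_
    ext V x
    exact map_smul ((toSheafify J P).app V).hom l x
  exact congrArg (fun m => NatTrans.app m (op U)) h

theorem map_smul_hom (U : C) {M N : ModuleCat.{u} Λ} (l : Λ) (f : M ⟶ N) :
    (T J Λ U).map (l • f) = l • (T J Λ U).map f := by
  rw [show l • f = (l • 𝟙 M) ≫ f by simp, Functor.map_comp, map_smul_id]
  simp

variable (U : C) (M : Type u) [AddCommGroup M] [Module Λ M]

/-- `m ↦ m ⊗ q`. -/
noncomputable abbrev put {Q : Type u} [AddCommGroup Q] [Module Λ Q] (q : Q) :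
    ModuleCat.of Λ M ⟶ ModuleCat.of Λ (M ⊗[Λ] Q) :=
  ModuleCat.ofHom ((TensorProduct.mk Λ M Q).flip q)

variable (Q : Type u) [AddCommGroup Q] [Module Λ Q]

/-- The comparison. -/
noncomputable def θ : ((T J Λ U).obj (ModuleCat.of Λ M) : Type u) ⊗[Λ] Q →ₗ[Λ]
    ((T J Λ U).obj (ModuleCat.of Λ (M ⊗[Λ] Q)) : Type u) :=
  TensorProduct.lift (LinearMap.flip
    { toFun := fun q => ((T J Λ U).map (put M q)).hom
      map_add' := fun q q' => by
        rw [show put (Λ := Λ) M (q + q') = put M q + put M q' by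
          simp only [put, map_add]; rfl, Functor.map_add]
        rfl
      map_smul' := fun l q => by
        rw [show put (Λ := Λ) M (l • q) = l • put M q by simp only [put, map_smul]; rfl, map_smul_hom]
        rfl })

theorem θ_tmul (s : ((T J Λ U).obj (ModuleCat.of Λ M) : Type u)) (q : Q) :
    θ (Λ := Λ) J U M Q (s ⊗ₜ q) = ((T J Λ U).map (put M q)).hom s := rfl

variable {Q} {Q' : Type u} [AddCommGroup Q'] [Module Λ Q']

theorem θ_natural (φ : Q →ₗ[Λ] Q') (z : ((T J Λ U).obj (ModuleCat.of Λ M) : Type u) ⊗[Λ] Q) :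
    θ (Λ := Λ) J U M Q' (φ.lTensor _ z) = ((T J Λ U).map (ModuleCat.ofHom (φ.lTensor M))).hom (θ (Λ := Λ) J U M Q z) := by
  induction z using TensorProduct.induction_on with
  | zero => simp only [map_zero]
  | tmul s q =>
    rw [LinearMap.lTensor_tmul, θ_tmul, θ_tmul]
    refine (ConcreteCategory.congr_hom (congrArg (T J Λ U).map
      (show put M (φ q) = put M q ≫ ModuleCat.ofHom (φ.lTensor M) from rfl)) s).trans ?_
    exact ConcreteCategory.congr_hom ((T J Λ U).map_comp _ _) s
  | add a b ha hb => simp only [map_add, ha, hb]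

/-- `θ` is bijective on finite free modules. -/
theorem bijective_free (n : ℕ) : Function.Bijective (θ (Λ := Λ) J U M (Fin n → Λ)) := by
  classical
  let pr : ∀ _ : Fin n, ModuleCat.of Λ (M ⊗[Λ] (Fin n → Λ)) ⟶ ModuleCat.of Λ M := fun i =>
    ModuleCat.ofHom ((TensorProduct.rid Λ M).toLinearMap ∘ₗ (LinearMap.proj i).lTensor M)
  let e : Fin n → (Fin n → Λ) := fun i => Pi.single i 1
  have hsum : ∀ q : Fin n → Λ, ∑ i, q i • e i = q := fun q => (pi_eq_sum_univ' q).symm
  have hpr : ∀ i (q : Fin n → Λ), put M q ≫ pr i = q i • 𝟙 _ := fun i q => by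
    ext m
    simp [put, pr]
  let ψ : ((T J Λ U).obj (ModuleCat.of Λ (M ⊗[Λ] (Fin n → Λ))) : Type u) →
      ((T J Λ U).obj (ModuleCat.of Λ M) : Type u) ⊗[Λ] (Fin n → Λ) :=
    fun x => ∑ i, (((T J Λ U).map (pr i)).hom x) ⊗ₜ e i
  refine Function.bijective_iff_has_inverse.2 ⟨ψ, fun z => ?_, fun x => ?_⟩
  · induction z using TensorProduct.induction_on with
    | zero => simp only [ψ, map_zero, TensorProduct.zero_tmul, Finset.sum_const_zero]
    | tmul s q =>
      have h : ∀ i, ((T J Λ U).map (pr i)).hom (θ (Λ := Λ) J U M _ (s ⊗ₜ q)) = q i • s := fun i => by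
        rw [θ_tmul]
        refine (ConcreteCategory.congr_hom ((T J Λ U).map_comp (put M q) (pr i)) s).symm.trans ?_
        rw [hpr, map_smul_id]
        rfl
      simp only [ψ, h]
      conv_rhs => rw [← hsum q, TensorProduct.tmul_sum]
      exact Finset.sum_congr rfl fun i _ => TensorProduct.smul_tmul _ _ _
    | add a b ha hb =>
      conv_rhs => rw [← ha, ← hb]
      simp only [ψ, map_add, TensorProduct.add_tmul, Finset.sum_add_distrib]
  · simp only [ψ, map_sum, θ_tmul]
    have hid : (∑ i, pr i ≫ put M (e i)) = 𝟙 (ModuleCat.of Λ (M ⊗[Λ] (Fin n → Λ))) := by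
      refine ModuleCat.hom_ext (TensorProduct.ext' fun m q => ?_)
      simp only [ModuleCat.hom_sum, LinearMap.sum_apply]
      show ∑ i, ((q i • m) ⊗ₜ[Λ] e i) = m ⊗ₜ q
      conv_rhs => rw [← hsum q, TensorProduct.tmul_sum]
      exact Finset.sum_congr rfl fun i _ => TensorProduct.smul_tmul _ _ _
    refine Eq.trans ?_ (ConcreteCategory.congr_hom ((congrArg (T J Λ U).map hid).trans ((T J Λ U).map_id _)) x)
    rw [Functor.map_sum]
    simp [Functor.map_comp]

/-- `θ` is bijective on finitely presented modules. -/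
theorem bijective_θ [Module.FinitePresentation Λ Q] : Function.Bijective (θ (Λ := Λ) J U M Q) := by
  obtain ⟨n, m, f, g, hf, hgf⟩ := Module.FinitePresentation.exists_fin' Λ Q
  have hfM : Function.Surjective (f.lTensor ((T J Λ U).obj (ModuleCat.of Λ M) : Type u)) :=
    LinearMap.lTensor_surjective _ hf
  refine ⟨(injective_iff_map_eq_zero _).2 fun z hz => ?_, fun y => ?_⟩
  · obtain ⟨w, rfl⟩ := hfM z
    rw [θ_natural] at hz
    obtain ⟨v', hv'⟩ := (exact_map J U (ModuleCat.ofHom (g.lTensor M)) (ModuleCat.ofHom (f.lTensor M))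
      (lTensor_exact M hgf hf) _).1 hz
    obtain ⟨v, rfl⟩ := (bijective_free (Λ := Λ) J U M m).2 v'
    rw [← θ_natural] at hv'
    rw [← (bijective_free (Λ := Λ) J U M n).1 hv', ← LinearMap.comp_apply, ← LinearMap.lTensor_comp,
      hgf.linearMap_comp_eq_zero, LinearMap.lTensor_zero, LinearMap.zero_apply]
  · obtain ⟨x, rfl⟩ := surjective_map J U (ModuleCat.ofHom (f.lTensor M)) (LinearMap.lTensor_surjective M hf) y
    obtain ⟨w, rfl⟩ := (bijective_free (Λ := Λ) J U M n).2 x
    exact ⟨f.lTensor _ w, θ_natural J U M f w⟩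

/-- Sections of the constant sheaf of a flat module are flat when finitely generated ideals are finitely
presented. -/
theorem flat (hΛ : ∀ I : Ideal Λ, I.FG → Module.FinitePresentation Λ I) [Module.Flat Λ M] :
    Module.Flat Λ ((T J Λ U).obj (ModuleCat.of Λ M) : Type u) := by
  rw [Module.Flat.iff_lift_lsmul_comp_subtype_injective]
  intro I hI
  haveI := hΛ I hI
  let μ : ModuleCat.of Λ (M ⊗[Λ] I) ⟶ ModuleCat.of Λ M :=
    ModuleCat.ofHom ((TensorProduct.rid Λ M).toLinearMap ∘ₗ I.subtype.lTensor M)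
  have hμ : Function.Injective μ.hom :=
    (TensorProduct.rid Λ M).injective.comp (Module.Flat.lTensor_preserves_injective_linearMap _ Subtype.val_injective)
  have hT : Function.Injective ((T J Λ U).map μ).hom := by
    haveI := preservesFiniteLimits_T (Λ := Λ) J U
    haveI : Mono μ := (ModuleCat.mono_iff_injective _).2 hμ
    exact (ModuleCat.mono_iff_injective _).1 inferInstance
  have key : ∀ z : I ⊗[Λ] ((T J Λ U).obj (ModuleCat.of Λ M) : Type u),
      TensorProduct.lift ((LinearMap.lsmul Λ _).comp I.subtype) z =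
        ((T J Λ U).map μ).hom (θ (Λ := Λ) J U M I (TensorProduct.comm Λ _ _ z)) := fun z => by
    induction z using TensorProduct.induction_on with
    | zero => simp only [map_zero]
    | tmul i s =>
      rw [TensorProduct.comm_tmul, θ_tmul, TensorProduct.lift.tmul]
      refine Eq.trans ?_ (ConcreteCategory.congr_hom ((T J Λ U).map_comp (put M i) μ) s)
      have : put M i ≫ μ = (i : Λ) • 𝟙 (ModuleCat.of Λ M) := by
        ext m
        simp [put, μ]
      rw [this, map_smul_id]
      rfl
    | add a b ha hb => simp only [map_add, ha, hb]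
  intro a b hab
  rw [key, key] at hab
  exact (TensorProduct.comm Λ _ _).injective ((bijective_θ (Q := I) J U M).1 (hT hab))

end Groth.Agent.H15Site.ConstModule
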